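import Mathlib
import Cfsg.Prelude.Def_GeometricClasses
import Cfsg.Agent.ClassicalGeometry.OrthAutRoot
set_option linter.all false

/-!
Bridge between the frozen vocabulary (`Cfsg.Geo.omegaGL Q`, a subgroup of `GL ι F`, `Q` a function
with `IsNondegenerateQuadraticForm Q`) and the abstract orthogonal groups of
`Cfsg.Agent.LieClassical.OrthCore` (`O q`, `E q`, subgroups of `V ≃ₗ[F] V`).
-/

set_option autoImplicit false
set_option linter.unusedSectionVars false

namespace Cfsg.Agent.H887.OmegaBridge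

open QuadraticMap Cfsg.Agent.LieClassical.OrthCore Cfsg.Agent.LieClassical.OrthTrans
  Cfsg.Agent.ClassicalGeometry.OrthAutBasic
open scoped MatrixGroups Matrix

variable {ι : Type} [Fintype ι] [DecidableEq ι] {F : Type*} [Field F]

/-- The quadratic form attached to a function with `IsNondegenerateQuadraticForm`. -/
def qf (Q : (ι → F) → F) (hQ : Cfsg.Geo.IsNondegenerateQuadraticForm Q) :
    QuadraticForm F (ι → F) :=
  QuadraticMap.ofPolar Q (fun a x => by rw [hQ.smul, smul_eq_mul, pow_two])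
    (fun x x' y => hQ.polar_bilinear.add_left x x' y)
    (fun a x y => hQ.polar_bilinear.smul_left a x y)

theorem qf_apply (Q : (ι → F) → F) (hQ : Cfsg.Geo.IsNondegenerateQuadraticForm Q) (v : ι → F) :
    qf Q hQ v = Q v := rfl

theorem coe_qf (Q : (ι → F) → F) (hQ : Cfsg.Geo.IsNondegenerateQuadraticForm Q) :
    (⇑(qf Q hQ) : (ι → F) → F) = Q := rfl

theorem polar_qf (Q : (ι → F) → F) (hQ : Cfsg.Geo.IsNondegenerateQuadraticForm Q) (v w : ι → F) :
    polar (⇑(qf Q hQ)) v w = polar Q v w := rfl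

theorem nondeg_qf (Q : (ι → F) → F) (hQ : Cfsg.Geo.IsNondegenerateQuadraticForm Q) :
    Nondeg (qf Q hQ) := by
  intro x hx
  by_contra h
  obtain ⟨y, hy⟩ := (hQ.nondegenerate x h).2
  exact hy (hx y)

theorem big_qf (Q : (ι → F) → F) (hQ : Cfsg.Geo.IsNondegenerateQuadraticForm Q)
    (hn : 7 ≤ Fintype.card ι) : Big (qf Q hQ) where
  nondeg := nondeg_qf Q hQ
  dim := by rwa [Module.finrank_fintype_fun_eq_card]

/-- `GL ι F` as linear automorphisms of `ι → F`. -/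
noncomputable def le (ι : Type) [Fintype ι] [DecidableEq ι] (F : Type*) [Field F] :
    GL ι F ≃* ((ι → F) ≃ₗ[F] (ι → F)) :=
  Matrix.GeneralLinearGroup.toLin.trans (LinearMap.GeneralLinearGroup.generalLinearEquiv F (ι → F))

theorem le_apply (g : GL ι F) (v : ι → F) : le ι F g v = (g : Matrix ι ι F) *ᵥ v := rfl

theorem le_symm_mulVec (e : (ι → F) ≃ₗ[F] (ι → F)) (v : ι → F) :
    (((le ι F).symm e : GL ι F) : Matrix ι ι F) *ᵥ v = e v := by
  rw [← le_apply, MulEquiv.apply_symm_apply]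

theorem toLin'_eq (g : GL ι F) :
    Matrix.toLin' (g : Matrix ι ι F) = ((le ι F g : (ι → F) ≃ₗ[F] (ι → F)) : (ι → F) →ₗ[F] (ι → F)) := by
  ext v
  rfl

theorem le_coe (g : GL ι F) :
    ((le ι F g : (ι → F) ≃ₗ[F] (ι → F)) : (ι → F) →ₗ[F] (ι → F)) = Matrix.toLin' (g : Matrix ι ι F) :=
  (toLin'_eq g).symm

/-- Elements of the frozen isometry group. -/
theorem mem_isometryGroup {Q : (ι → F) → F} {g : GL ι F} :
    g ∈ Cfsg.isometryGroup F Q ↔ ∀ v, Q ((g : Matrix ι ι F) *ᵥ v) = Q v := by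
  constructor
  · intro h v
    exact h v v
  · intro h u _
    exact h u

theorem map_isometryGroup (Q : (ι → F) → F) (hQ : Cfsg.Geo.IsNondegenerateQuadraticForm Q) :
    (Cfsg.isometryGroup F Q).map (le ι F).toMonoidHom = O (qf Q hQ) := by
  ext e
  constructor
  · rintro ⟨g, hg, rfl⟩
    intro v
    exact mem_isometryGroup.1 hg v
  · intro he
    refine ⟨(le ι F).symm e, ?_, MulEquiv.apply_symm_apply _ _⟩
    refine mem_isometryGroup.2 fun v => ?_
    rw [le_symm_mulVec]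
    exact he v

theorem omegaGL_eq (Q : (ι → F) → F) :
    Cfsg.Geo.omegaGL Q = ⁅Cfsg.isometryGroup F Q, Cfsg.isometryGroup F Q⁆ := by
  rw [Cfsg.Geo.omegaGL, Cfsg.Omega, commutator_def, Subgroup.map_commutator]
  congr 1 <;>
  · ext x
    constructor
    · rintro ⟨y, -, rfl⟩
      exact y.2
    · intro hx
      exact ⟨⟨x, hx⟩, Subgroup.mem_top _, rfl⟩

theorem map_omegaGL (Q : (ι → F) → F) (hQ : Cfsg.Geo.IsNondegenerateQuadraticForm Q) :
    (Cfsg.Geo.omegaGL Q).map (le ι F).toMonoidHom = ⁅O (qf Q hQ), O (qf Q hQ)⁆ := by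
  rw [omegaGL_eq, Subgroup.map_commutator, map_isometryGroup Q hQ]

/-- `Ω(Q)` is the group generated by the Siegel transformations. -/
theorem map_omegaGL_eq_E (Q : (ι → F) → F) (hQ : Cfsg.Geo.IsNondegenerateQuadraticForm Q)
    (hG : Good (qf Q hQ)) :
    (Cfsg.Geo.omegaGL Q).map (le ι F).toMonoidHom = E (qf Q hQ) := by
  rw [map_omegaGL Q hQ, hG.commutator_eq_E]

theorem mem_omegaGL_iff (Q : (ι → F) → F) (hQ : Cfsg.Geo.IsNondegenerateQuadraticForm Q)
    (hG : Good (qf Q hQ)) (g : GL ι F) : g ∈ Cfsg.Geo.omegaGL Q ↔ le ι F g ∈ E (qf Q hQ) := by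
  rw [← map_omegaGL_eq_E Q hQ hG]
  constructor
  · intro h
    exact ⟨g, h, rfl⟩
  · rintro ⟨g', hg', e⟩
    have : g' = g := (le ι F).injective e
    rwa [← this]

/-! ### Transport of maximality -/

theorem isMaximalIn_iff_map {G G' : Type*} [Group G] [Group G'] (e : G ≃* G')
    (K H : Subgroup G) :
    Cfsg.Geo.IsMaximalIn K H ↔
      Cfsg.Geo.IsMaximalIn (K.map e.toMonoidHom) (H.map e.toMonoidHom) := by
  have hinj : Function.Injective e.toMonoidHom := e.injective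
  constructor
  · rintro ⟨h1, h2⟩
    refine ⟨(Subgroup.map_lt_map_iff_of_injective hinj).2 h1, ?_⟩
    intro M hM1 hM2
    have hM : (M.comap e.toMonoidHom).map e.toMonoidHom = M :=
      Subgroup.map_comap_eq_self_of_surjective e.surjective M
    have h3 : H ≤ M.comap e.toMonoidHom := Subgroup.map_le_iff_le_comap.1 hM1
    have h4 : M.comap e.toMonoidHom ≤ K := by
      rw [← Subgroup.map_le_map_iff_of_injective hinj, hM]
      exact hM2
    rcases h2 _ h3 h4 with h | h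
    · left; rw [← h, hM]
    · right; rw [← h, hM]
  · rintro ⟨h1, h2⟩
    refine ⟨(Subgroup.map_lt_map_iff_of_injective hinj).1 h1, ?_⟩
    intro M hM1 hM2
    rcases h2 _ (Subgroup.map_mono hM1) (Subgroup.map_mono hM2) with h | h
    · left; exact Subgroup.map_injective hinj h
    · right; exact Subgroup.map_injective hinj h

/-- The family of subspaces `D` is permuted by the linear automorphism. -/
def decStab {V : Type*} [AddCommGroup V] [Module F V] {t : ℕ} (D : Fin t → Submodule F V) :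
    Set (V ≃ₗ[F] V) :=
  {g | ∃ σ : Equiv.Perm (Fin t), ∀ i, (D i).map (g : V →ₗ[F] V) = D (σ i)}

theorem mem_decompositionStabilizer_iff {t : ℕ} (D : Fin t → Submodule F (ι → F)) (g : GL ι F) :
    g ∈ Cfsg.Geo.decompositionStabilizer D ↔ le ι F g ∈ decStab D := by
  constructor
  · rintro ⟨σ, h⟩
    exact ⟨σ, fun i => by rw [le_coe]; exact h i⟩
  · rintro ⟨σ, h⟩
    exact ⟨σ, fun i => by have := h i; rwa [le_coe] at this⟩

/-- The general reduction: `S` is a subgroup of `GL`, `S'` the corresponding set of linear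
automorphisms. Then `S ⊓ Ω` is maximal in `Ω` if some element of `E q` is not in `S'` and every
subgroup `H` of `O q` that contains `S' ∩ E q` and an element of `E q` outside `S'` contains `E q`. -/
theorem isMaximalIn_omegaGL (Q : (ι → F) → F) (hQ : Cfsg.Geo.IsNondegenerateQuadraticForm Q)
    (hG : Good (qf Q hQ)) (S : Subgroup (GL ι F)) (S' : Set ((ι → F) ≃ₗ[F] (ι → F)))
    (hS : ∀ g : GL ι F, g ∈ S ↔ le ι F g ∈ S')
    (hex : ∃ g ∈ E (qf Q hQ), g ∉ S')
    (hmax : ∀ H : Subgroup ((ι → F) ≃ₗ[F] (ι → F)), H ≤ E (qf Q hQ) →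
      (∀ g ∈ E (qf Q hQ), g ∈ S' → g ∈ H) → (∃ h ∈ H, h ∉ S') → E (qf Q hQ) ≤ H) :
    Cfsg.Geo.IsMaximalIn (Cfsg.Geo.omegaGL Q) (S ⊓ Cfsg.Geo.omegaGL Q) := by
  rw [isMaximalIn_iff_map (le ι F), map_omegaGL_eq_E Q hQ hG]
  have hmem : ∀ e : (ι → F) ≃ₗ[F] (ι → F),
      e ∈ (S ⊓ Cfsg.Geo.omegaGL Q).map (le ι F).toMonoidHom ↔ e ∈ S' ∧ e ∈ E (qf Q hQ) := by
    intro e
    constructor
    · rintro ⟨g, hg, rfl⟩
      exact ⟨(hS g).1 hg.1, (mem_omegaGL_iff Q hQ hG g).1 hg.2⟩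
    · rintro ⟨h1, h2⟩
      refine ⟨(le ι F).symm e, ⟨?_, ?_⟩, MulEquiv.apply_symm_apply _ _⟩
      · exact (hS _).2 (by rwa [MulEquiv.apply_symm_apply])
      · exact (mem_omegaGL_iff Q hQ hG _).2 (by rwa [MulEquiv.apply_symm_apply])
  refine ⟨lt_of_le_of_ne (fun e he => ((hmem e).1 he).2) ?_, ?_⟩
  · intro h
    obtain ⟨g, hg, hg'⟩ := hex
    rw [← h] at hg
    exact hg' ((hmem g).1 hg).1
  · intro H h1 h2
    by_cases hH : ∃ h ∈ H, h ∉ S'
    · right
      refine le_antisymm h2 (hmax H h2 (fun g hg hg' => h1 ((hmem g).2 ⟨hg', hg⟩)) hH)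
    · left
      push Not at hH
      refine le_antisymm (fun e he => (hmem e).2 ⟨hH e he, h2 he⟩) h1

/-- Version without maximality: a subgroup strictly between. -/
theorem exists_between_omegaGL (Q : (ι → F) → F) (hQ : Cfsg.Geo.IsNondegenerateQuadraticForm Q)
    (hG : Good (qf Q hQ)) (S : Subgroup (GL ι F)) (S' : Set ((ι → F) ≃ₗ[F] (ι → F)))
    (hS : ∀ g : GL ι F, g ∈ S ↔ le ι F g ∈ S')
    (K' : Subgroup ((ι → F) ≃ₗ[F] (ι → F))) (hK1 : ∀ g ∈ E (qf Q hQ), g ∈ S' → g ∈ K')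
    (hK2 : ∃ g ∈ E (qf Q hQ), g ∈ K' ∧ g ∉ S') (hK3 : ∃ g ∈ E (qf Q hQ), g ∉ K') :
    ∃ K : Subgroup (GL ι F), S ⊓ Cfsg.Geo.omegaGL Q < K ∧ K < Cfsg.Geo.omegaGL Q := by
  refine ⟨K'.comap (le ι F).toMonoidHom ⊓ Cfsg.Geo.omegaGL Q, ?_, ?_⟩
  · refine lt_of_le_of_ne ?_ ?_
    · intro g hg
      exact ⟨hK1 _ ((mem_omegaGL_iff Q hQ hG g).1 hg.2) ((hS g).1 hg.1), hg.2⟩
    · intro h
      obtain ⟨g, hg1, hg2, hg3⟩ := hK2
      have h1 : (le ι F).symm g ∈ K'.comap (le ι F).toMonoidHom ⊓ Cfsg.Geo.omegaGL Q := by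
        refine ⟨?_, (mem_omegaGL_iff Q hQ hG _).2 (by rwa [MulEquiv.apply_symm_apply])⟩
        show (le ι F) ((le ι F).symm g) ∈ K'
        rwa [MulEquiv.apply_symm_apply]
      rw [← h] at h1
      have := (hS _).1 h1.1
      rw [MulEquiv.apply_symm_apply] at this
      exact hg3 this
  · refine lt_of_le_of_ne inf_le_right ?_
    intro h
    obtain ⟨g, hg1, hg2⟩ := hK3
    have h1 : (le ι F).symm g ∈ Cfsg.Geo.omegaGL Q :=
      (mem_omegaGL_iff Q hQ hG _).2 (by rwa [MulEquiv.apply_symm_apply])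
    rw [← h] at h1
    have h2 : (le ι F) ((le ι F).symm g) ∈ K' := h1.1
    rw [MulEquiv.apply_symm_apply] at h2
    exact hg2 h2

end Cfsg.Agent.H887.OmegaBridge
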