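import Mathlib
import Cfsg.Agent.H887.SiegelMethod
import Cfsg.Agent.H887.OmegaBridge
set_option linter.all false

-- part: H887/TSPair
section
/-!
Overgroups in the orthogonal group of the stabiliser of a pair of complementary totally singular
subspaces `U, W`: a subgroup `H` of `O Q` that contains the long root elements `T Q a b`,
`a ∈ U`, `b ∈ W`, `B(a,b) = 0`, and an element interchanging `U` and `W`, either permutes
`U, W` or contains `E Q`.
-/

set_option autoImplicit false

namespace Cfsg.Agent.H887.TS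

open QuadraticMap Cfsg.Agent.LieClassical.OrthCore Cfsg.Agent.LieClassical.OrthTrans
  Cfsg.Agent.LieClassical.OrthSimple Cfsg.Agent.ClassicalGeometry.OrthAutBasic
  Cfsg.Agent.H887.SiegelMethod

variable {F V : Type*} [Field F] [AddCommGroup V] [Module F V] {Q : QuadraticForm F V}

/-- A nonzero vector of the subspace `U` orthogonal to `n < dim U` given vectors. -/
theorem exists_perp_mem (U : Submodule F V) {n : ℕ} (u : Fin n → V)
    (hn : n < Module.finrank F U) : ∃ w ∈ U, w ≠ 0 ∧ ∀ i, polar Q (u i) w = 0 := by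
  have : Module.Finite F U := Module.finite_of_finrank_pos (by omega)
  let f : V →ₗ[F] (Fin n → F) := LinearMap.pi fun i => polarBilin Q (u i)
  let g : U →ₗ[F] (Fin n → F) := f.comp U.subtype
  have hker : LinearMap.ker g ≠ ⊥ := by
    apply LinearMap.ker_ne_bot_of_finrank_lt
    rw [Module.finrank_fin_fun]
    exact hn
  obtain ⟨w, hw, hw0⟩ := Submodule.exists_mem_ne_zero_of_ne_bot hker
  refine ⟨w, w.2, fun h => hw0 (Subtype.ext h), fun i => ?_⟩
  have := congrFun (LinearMap.mem_ker.1 hw) i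
  simpa [g, f] using this

/-- Two complementary totally singular subspaces. -/
structure TSPair (Q : QuadraticForm F V) (U W : Submodule F V) : Prop where
  tsU : ∀ u ∈ U, Q u = 0
  tsW : ∀ w ∈ W, Q w = 0
  sup : U ⊔ W = ⊤
  inf : U ⊓ W = ⊥

variable {U W : Submodule F V}

theorem TSPair.symm (P : TSPair Q U W) : TSPair Q W U :=
  ⟨P.tsW, P.tsU, by rw [sup_comm]; exact P.sup, by rw [inf_comm]; exact P.inf⟩

theorem TSPair.decomp (P : TSPair Q U W) (v : V) : ∃ a ∈ U, ∃ b ∈ W, v = a + b := by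
  have h : v ∈ U ⊔ W := by rw [P.sup]; exact Submodule.mem_top
  obtain ⟨a, ha, b, hb, h⟩ := Submodule.mem_sup.1 h
  exact ⟨a, ha, b, hb, h.symm⟩

theorem TSPair.eq_zero (P : TSPair Q U W) {v : V} (h1 : v ∈ U) (h2 : v ∈ W) : v = 0 := by
  have : v ∈ U ⊓ W := ⟨h1, h2⟩
  rw [P.inf] at this
  exact (Submodule.mem_bot F).1 this

theorem TSPair.polarU (P : TSPair Q U W) {a b : V} (ha : a ∈ U) (hb : b ∈ U) :
    polar Q a b = 0 := by
  have h := P.tsU _ (U.add_mem ha hb)
  rw [Q_add, P.tsU a ha, P.tsU b hb] at h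
  simpa using h

theorem TSPair.polarW (P : TSPair Q U W) {a b : V} (ha : a ∈ W) (hb : b ∈ W) :
    polar Q a b = 0 := P.symm.polarU ha hb

/-- A vector of `W` with prescribed products: `B(z, b) = 0`, `B(x, b) = 1` for `x, z ∈ U`,
`x` not a multiple of `z`. -/
theorem TSPair.exists_sepW (P : TSPair Q U W) (hQ : Nondeg Q) {x z : V} (hx : x ∈ U)
    (hz : z ∈ U) (h : ∀ c : F, x ≠ c • z) : ∃ b ∈ W, polar Q z b = 0 ∧ polar Q x b = 1 := by
  obtain ⟨y, hy1, hy2⟩ := exists_sep hQ h
  obtain ⟨a, ha, b, hb, rfl⟩ := P.decomp y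
  rw [polar_add_right, P.polarU hz ha, zero_add] at hy1
  rw [polar_add_right, P.polarU hx ha, zero_add] at hy2
  exact ⟨b, hb, hy1, hy2⟩

theorem TSPair.exists_dualW (P : TSPair Q U W) (hQ : Nondeg Q) {x : V} (hx : x ∈ U)
    (h : x ≠ 0) : ∃ b ∈ W, polar Q x b = 1 := by
  obtain ⟨b, hb, _, h2⟩ := P.exists_sepW hQ hx U.zero_mem (by simpa using h)
  exact ⟨b, hb, h2⟩

/-- The hypothesis on the overgroup. -/
structure Over (Q : QuadraticForm F V) (U W : Submodule F V) (H : Subgroup (V ≃ₗ[F] V)) :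
    Prop where
  le : H ≤ O Q
  root : ∀ a ∈ U, ∀ b ∈ W, polar Q a b = 0 → T Q a b ∈ H

variable {H : Subgroup (V ≃ₗ[F] V)}

theorem Over.symm (P : TSPair Q U W) (h : Over Q U W H) : Over Q W U H := by
  refine ⟨h.le, fun a ha b hb hab => ?_⟩
  rw [T_swap (P.tsW a ha) (P.tsU b hb) hab]
  refine h.root b hb (-a) (W.neg_mem ha) ?_
  rw [polar_neg_right, polar_comm, hab, neg_zero]

/-- `W ∩ u^⊥ ≤ Ts u` for `u ∈ U`. -/
theorem Over.mem_Ts (h : Over Q U W H) {u w : V} (hu : u ∈ U) (hw : w ∈ W)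
    (huw : polar Q u w = 0) : w ∈ Ts Q H u := by
  refine ⟨huw, fun c => h.root u hu _ (W.smul_mem c hw) ?_⟩
  rw [polar_smul_right, huw, smul_zero]

/-- If `Ts u`, `u ∈ U`, is not contained in `⟨u⟩ + W` then `Ts u = u^⊥`. -/
theorem Over.full (P : TSPair Q U W) (hQ : Nondeg Q) (h : Over Q U W H) {u x0 x1 : V}
    (hu : u ∈ U) (hx0 : x0 ∈ U) (hx1 : x1 ∈ W) (hx : x0 + x1 ∈ Ts Q H u)
    (hx0u : ∀ c : F, x0 ≠ c • u) : ∀ y, polar Q u y = 0 → y ∈ Ts Q H u := by
  have hx1u : polar Q u x1 = 0 := by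
    have := hx.1
    rwa [polar_add_right, P.polarU hu hx0, zero_add] at this
  have hx0T : x0 ∈ Ts Q H u := by
    have := (Ts Q H u).sub_mem hx (h.mem_Ts hu hx1 hx1u)
    rwa [add_sub_cancel_right] at this
  obtain ⟨b, hb, hub, hxb⟩ := P.exists_sepW hQ hx0 hu hx0u
  -- `U ∩ b^⊥ ≤ Ts u`
  have h1 : ∀ a ∈ U, polar Q a b = 0 → a ∈ Ts Q H u := by
    intro a ha hab
    have hfix : T Q a b u = u :=
      T_apply_fix (P.tsU a ha) hab (P.polarU ha hu) (by rw [polar_comm]; exact hub)
    have h2 := root_mem_Ts h.le (P.tsU a ha) (P.tsW b hb) hab (h.root a ha b hb hab) hfix hx0T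
    rw [P.polarU ha hx0, zero_smul, zero_sub, polar_comm, hxb, one_smul] at h2
    simpa using (Ts Q H u).neg_mem h2
  have h2 : ∀ a ∈ U, a ∈ Ts Q H u := by
    intro a ha
    have h3 : a - polar Q a b • x0 ∈ Ts Q H u := by
      refine h1 _ (U.sub_mem ha (U.smul_mem _ hx0)) ?_
      rw [polar_sub_left, polar_smul_left, hxb, smul_eq_mul, mul_one, sub_self]
    have h4 := (Ts Q H u).add_mem h3 ((Ts Q H u).smul_mem (polar Q a b) hx0T)
    rwa [sub_add_cancel] at h4
  intro y hy
  obtain ⟨a, ha, c, hc, rfl⟩ := P.decomp y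
  rw [polar_add_right, P.polarU hu ha, zero_add] at hy
  exact (Ts Q H u).add_mem (h2 a ha) (h.mem_Ts hu hc hy)

/-- If one `Ts u`, `u ∈ U` nonzero, is full, all are. -/
theorem Over.full_all (P : TSPair Q U W) (hQ : Nondeg Q) (h : Over Q U W H) {u : V}
    (hu : u ∈ U) (hu0 : u ≠ 0) (hdim : 2 ≤ Module.finrank F U)
    (hfull : ∀ y, polar Q u y = 0 → y ∈ Ts Q H u) :
    ∀ x ∈ U, ∀ y, polar Q x y = 0 → y ∈ Ts Q H x := by
  -- first for `x` not a multiple of `u`
  have key : ∀ {u x : V}, u ∈ U → (∀ y, polar Q u y = 0 → y ∈ Ts Q H u) → x ∈ U →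
      (∀ c : F, u ≠ c • x) → ∀ y, polar Q x y = 0 → y ∈ Ts Q H x := by
    intro u x hu hfull hx hux
    have h1 : u ∈ Ts Q H x := by
      rw [mem_Ts_comm (P.tsU x hx) (P.tsU u hu)]
      exact hfull x (P.polarU hu hx)
    have h2 : u + 0 ∈ Ts Q H x := by rwa [add_zero]
    exact h.full P hQ hx hu W.zero_mem h2 hux
  intro x hx
  by_cases hux : ∀ c : F, u ≠ c • x
  · exact key hu hfull hx hux
  · push Not at hux
    obtain ⟨c, hc⟩ := hux
    have hx0 : x ≠ 0 := by rintro rfl; rw [smul_zero] at hc; exact hu0 hc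
    -- choose `z ∈ U` not a multiple of `u`
    obtain ⟨w, hw, hw1⟩ := P.exists_dualW hQ hx hx0
    obtain ⟨z, hz, hz0, hz1⟩ := exists_perp_mem (Q := Q) U ![w] (by omega)
    have hzw : polar Q w z = 0 := hz1 0
    have hzx : ∀ c : F, z ≠ c • x := by
      rintro d rfl
      rw [polar_smul_right, polar_comm, hw1, smul_eq_mul, mul_one] at hzw
      exact hz0 (by rw [hzw, zero_smul])
    have huz : ∀ d : F, u ≠ d • z := by
      intro d hd
      have h1 : polar Q w u = 0 := by rw [hd, polar_smul_right, hzw, smul_zero]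
      rw [hc, polar_smul_right, polar_comm, hw1, smul_eq_mul, mul_one] at h1
      apply hu0
      rw [hc, h1, zero_smul]
    exact key hz (key hu hfull hz huz) hx hzx

/-- If some `Ts u`, `u ∈ U` nonzero, is full and an element of `H` maps `U` onto `W` then
`E Q ≤ H`. -/
theorem Over.E_le (P : TSPair Q U W) (hG : Good Q) (h : Over Q U W H) {u : V}
    (hu : u ∈ U) (hu0 : u ≠ 0) (hdim : 2 ≤ Module.finrank F U)
    (hfull : ∀ y, polar Q u y = 0 → y ∈ Ts Q H u) {s : V ≃ₗ[F] V} (hs : s ∈ H)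
    (hsU : ∀ a ∈ U, s a ∈ W) : E Q ≤ H := by
  have hall := h.full_all P hG.nondeg hu hu0 hdim hfull
  have hsO := h.le hs
  have hsu0 : s u ≠ 0 := by
    intro h0
    exact hu0 (s.map_eq_zero_iff.1 h0)
  obtain ⟨a, ha, ha1⟩ := P.symm.exists_dualW hG.nondeg (hsU u hu) hsu0
  refine E_le_of_Ts hG (P.tsU a ha) (P.tsW _ (hsU u hu)) (e := a) (f := s u) ?_
    (fun x hx => hall a ha x hx) ?_
  · rw [polar_comm, ha1]
    exact one_ne_zero
  · intro x hx
    obtain ⟨y, rfl⟩ := s.surjective x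
    rw [polar_map hsO] at hx
    exact map_mem_Ts hs hsO (hall u hu y hx)

/-- The main step: if no `Ts` is full, then `h u ∈ U ∪ W` for `h ∈ H`, `u ∈ U`. -/
theorem Over.image (P : TSPair Q U W) (hQ : Nondeg Q) (h : Over Q U W H)
    (hdimU : 5 ≤ Module.finrank F U) (hdimW : 5 ≤ Module.finrank F W)
    (hnU : ∀ u ∈ U, ∀ x0 ∈ U, ∀ x1 ∈ W, u ≠ 0 → x0 + x1 ∈ Ts Q H u → ∃ c : F, x0 = c • u)
    (hnW : ∀ u ∈ W, ∀ x0 ∈ W, ∀ x1 ∈ U, u ≠ 0 → x0 + x1 ∈ Ts Q H u → ∃ c : F, x0 = c • u)
    {g : V ≃ₗ[F] V} (hg : g ∈ H) {u : V} (hu : u ∈ U) : g u ∈ U ∨ g u ∈ W := by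
  by_cases hu0 : u = 0
  · left; rw [hu0, map_zero]; exact U.zero_mem
  have hgO := h.le hg
  have : Module.Finite F U := Module.finite_of_finrank_pos (by omega)
  have : Module.Finite F W := Module.finite_of_finrank_pos (by omega)
  obtain ⟨x0, hx0, x1, hx1, hr⟩ := P.decomp (g u)
  by_contra hcon
  push Not at hcon
  have hx00 : x0 ≠ 0 := by
    rintro rfl
    apply hcon.2
    rw [hr, zero_add]; exact hx1
  have hx10 : x1 ≠ 0 := by
    rintro rfl
    apply hcon.1
    rw [hr, add_zero]; exact hx0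
  have hrQ : Q (x0 + x1) = 0 := by rw [← hr, mem_O.1 hgO]; exact P.tsU u hu
  have h01 : polar Q x0 x1 = 0 := by
    rw [Q_add, P.tsU x0 hx0, P.tsW x1 hx1] at hrQ
    simpa using hrQ
  -- `U`-components of elements of `Ts r` are multiples of `x0`
  have key : ∀ {U W : Submodule F V} (_ : TSPair Q U W) (_ : Over Q U W H)
      (_ : 5 ≤ Module.finrank F U)
      (_ : ∀ u ∈ U, ∀ x0 ∈ U, ∀ x1 ∈ W, u ≠ 0 → x0 + x1 ∈ Ts Q H u → ∃ c : F, x0 = c • u)
      {x0 x1 : V} (_ : x0 ∈ U) (_ : x1 ∈ W) (_ : x0 ≠ 0) (_ : polar Q x0 x1 = 0)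
      {s0 s1 : V} (_ : s0 ∈ U) (_ : s1 ∈ W) (_ : s0 + s1 ∈ Ts Q H (x0 + x1)),
      ∃ c : F, s0 = c • x0 := by
    intro U W P h hdimU hnU x0 x1 hx0 hx1 hx00 h01 s0 s1 hs0 hs1 hs
    by_contra hcon
    push Not at hcon
    obtain ⟨b, hb, hb1, hb2⟩ := P.exists_sepW hQ hs0 hx0 hcon
    obtain ⟨w0, hw0, hw01⟩ := P.exists_dualW hQ hx0 hx00
    obtain ⟨a, ha, ha0, ha1⟩ := exists_perp_mem (Q := Q) U ![x1, b, s1, w0] (by omega)
    have e1 : polar Q x1 a = 0 := ha1 0
    have e2 : polar Q b a = 0 := ha1 1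
    have e3 : polar Q s1 a = 0 := ha1 2
    have e4 : polar Q w0 a = 0 := ha1 3
    have hab : polar Q a b = 0 := by rw [polar_comm]; exact e2
    have hrQ : Q (x0 + x1) = 0 := by
      rw [Q_add, P.tsU x0 hx0, P.tsW x1 hx1, h01]; simp
    have hfix : T Q a b (x0 + x1) = x0 + x1 := by
      refine T_apply_fix (P.tsU a ha) hab ?_ ?_
      · rw [polar_add_right, P.polarU ha hx0, polar_comm, e1, add_zero]
      · rw [polar_add_right, polar_comm, hb1, P.polarW hb hx1, add_zero]
    have h2 := root_mem_Ts h.le (P.tsU a ha) (P.tsW b hb) hab (h.root a ha b hb hab) hfix hs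
    have e5 : polar Q a (s0 + s1) = 0 := by
      rw [polar_add_right, P.polarU ha hs0, polar_comm, e3, add_zero]
    have e6 : polar Q b (s0 + s1) = 1 := by
      rw [polar_add_right, polar_comm, hb2, P.polarW hb hs1, add_zero]
    rw [e5, e6, zero_smul, zero_sub, one_smul] at h2
    have h3 : a ∈ Ts Q H (x0 + x1) := by simpa using (Ts Q H (x0 + x1)).neg_mem h2
    rw [mem_Ts_comm hrQ (P.tsU a ha)] at h3
    obtain ⟨c, hc⟩ := hnU a ha x0 hx0 x1 hx1 ha0 h3
    have h4 : polar Q x0 w0 = 0 := by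
      rw [hc, polar_smul_left, polar_comm, e4, smul_zero]
    rw [hw01] at h4
    exact one_ne_zero h4
  -- `Ts r` is contained in `⟨x0, x1⟩`
  have hle : Ts Q H (x0 + x1) ≤ Submodule.span F (Set.range ![x0, x1]) := by
    intro s hs
    obtain ⟨s0, hs0, s1, hs1, rfl⟩ := P.decomp s
    obtain ⟨c, hc⟩ := key P h hdimU hnU hx0 hx1 hx00 h01 hs0 hs1 hs
    have hs' : s1 + s0 ∈ Ts Q H (x1 + x0) := by
      rw [add_comm s1, add_comm x1]; exact hs
    obtain ⟨d, hd⟩ := key P.symm (h.symm P) hdimW hnW hx1 hx0 hx10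
      (by rw [polar_comm]; exact h01) hs1 hs0 hs'
    rw [hc, hd]
    refine Submodule.add_mem _ (Submodule.smul_mem _ _ (Submodule.subset_span ⟨0, rfl⟩))
      (Submodule.smul_mem _ _ (Submodule.subset_span ⟨1, rfl⟩))
  have hfinspan : Module.Finite F (Submodule.span F (Set.range ![x0, x1])) :=
    Module.Finite.span_of_finite F (Set.finite_range _)
  have hfr : Module.finrank F (Ts Q H (x0 + x1)) ≤ 2 := by
    refine (Submodule.finrank_mono hle).trans ?_
    refine (finrank_range_le_card (R := F) ![x0, x1]).trans ?_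
    simp
  -- but `W ∩ u^⊥` has dimension at least 4
  let X : Submodule F V := W ⊓ LinearMap.ker (polarBilin Q u)
  have hX : X ≤ Ts Q H u := by
    rintro x ⟨hx1, hx2⟩
    refine h.mem_Ts hu hx1 ?_
    simpa using hx2
  have hXmap : X.map (g : V →ₗ[F] V) ≤ Ts Q H (x0 + x1) := by
    rw [← hr, ← map_Ts hg hgO]
    exact Submodule.map_mono hX
  have hXfr : Module.finrank F (X.map (g : V →ₗ[F] V)) = Module.finrank F X :=
    LinearEquiv.finrank_map_eq g X
  have hfin : Module.Finite F (Ts Q H (x0 + x1)) := Submodule.finiteDimensional_of_le hle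
  have hX2 : Module.finrank F X ≤ 2 := by
    rw [← hXfr]
    exact (Submodule.finrank_mono hXmap).trans hfr
  -- contradiction
  have hX4 : 4 ≤ Module.finrank F X := by
    let f : W →ₗ[F] F := (polarBilin Q u).comp W.subtype
    have h1 := LinearMap.finrank_range_add_finrank_ker f
    have h2 : Module.finrank F (LinearMap.range f) ≤ 1 := by
      have := Submodule.finrank_le (LinearMap.range f)
      rwa [Module.finrank_self] at this
    have h3 : (LinearMap.ker f).map W.subtype ≤ X := by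
      rintro _ ⟨y, hy, rfl⟩
      exact ⟨y.2, by simpa [f] using hy⟩
    have h4 : Module.finrank F ((LinearMap.ker f).map W.subtype) =
        Module.finrank F (LinearMap.ker f) :=
      Submodule.finrank_map_subtype_eq W (LinearMap.ker f)
    have : Module.Finite F X := Submodule.finiteDimensional_of_le (inf_le_left : X ≤ W)
    have h5 := Submodule.finrank_mono h3
    omega
  omega

end Cfsg.Agent.H887.TS
end

-- part: H887/TSSwap
section
/-!
The element of `E Q` that interchanges two complementary totally singular subspaces of even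
dimension, and the overgroup theorem for the stabiliser of such a pair.
-/

set_option autoImplicit false

namespace Cfsg.Agent.H887.TS

open QuadraticMap Cfsg.Agent.LieClassical.OrthCore Cfsg.Agent.LieClassical.OrthTrans
  Cfsg.Agent.LieClassical.OrthSimple Cfsg.Agent.ClassicalGeometry.OrthAutBasic
  Cfsg.Agent.H887.SiegelMethod

variable {F V : Type*} [Field F] [AddCommGroup V] [Module F V] {Q : QuadraticForm F V}
variable {U W : Submodule F V}

/-- Dual bases of `U` and `W`. -/
theorem TSPair.exists_dual_basis (P : TSPair Q U W) (hQ : Nondeg Q) {k : ℕ}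
    (hU : Module.finrank F U = k) (hW : Module.finrank F W = k) (hk : 0 < k) :
    ∃ (e f : Fin k → V), (∀ i, e i ∈ U) ∧ (∀ i, f i ∈ W) ∧
      (∀ i j, polar Q (e i) (f j) = if i = j then 1 else 0) ∧
      (∀ a ∈ U, a = ∑ i, polar Q a (f i) • e i) ∧ (∀ b ∈ W, b = ∑ i, polar Q b (e i) • f i) := by
  have hfU : Module.Finite F U := Module.finite_of_finrank_pos (by omega)
  have hfW : Module.Finite F W := Module.finite_of_finrank_pos (by omega)
  let e := Module.finBasisOfFinrankEq F U hU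
  -- the pairing
  let Φ : W →ₗ[F] Module.Dual F U :=
    ((polarBilin Q).domRestrict₁₂ W U)
  have hΦ : ∀ (w : W) (u : U), Φ w u = polar Q (w : V) (u : V) := fun w u => rfl
  have hinj : Function.Injective Φ := by
    rw [← LinearMap.ker_eq_bot, LinearMap.ker_eq_bot']
    intro w hw
    apply Subtype.ext
    apply hQ
    intro y
    obtain ⟨a, ha, b, hb, rfl⟩ := P.decomp y
    rw [polar_add_right, P.polarW w.2 hb, add_zero]
    have := hΦ w ⟨a, ha⟩
    rw [hw] at this
    exact this.symm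
  have hsurj : Function.Surjective Φ := by
    rw [← LinearMap.injective_iff_surjective_of_finrank_eq_finrank]
    · exact hinj
    · rw [Subspace.dual_finrank_eq, hU, hW]
  choose f hf using fun i => hsurj (e.coord i)
  have hef : ∀ i j, polar Q ((e i : U) : V) ((f j : W) : V) = if i = j then 1 else 0 := by
    intro i j
    rw [polar_comm, ← hΦ, hf, Module.Basis.coord_apply, Module.Basis.repr_self,
      Finsupp.single_apply]
  refine ⟨fun i => e i, fun i => f i, fun i => (e i).2, fun i => (f i).2, hef, ?_, ?_⟩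
  · intro a ha
    have h1 : ∀ i, polar Q a (f i : V) = e.repr ⟨a, ha⟩ i := by
      intro i
      rw [polar_comm, ← hΦ (f i) ⟨a, ha⟩, hf, Module.Basis.coord_apply]
    have h2 : ((∑ i, (e.repr ⟨a, ha⟩ i) • e i : U) : V) = a :=
      congrArg (Subtype.val) (e.sum_repr ⟨a, ha⟩)
    have h3 : a = ∑ i, (e.repr ⟨a, ha⟩ i) • (e i : V) := by
      rw [Submodule.coe_sum] at h2
      exact h2.symm
    refine h3.trans ?_
    exact Finset.sum_congr rfl fun i _ => by rw [← h1 i]
  · intro b hb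
    have h1 : (⟨b, hb⟩ : W) = ∑ i, polar Q b (e i : V) • f i := by
      apply hinj
      refine e.ext fun j => ?_
      rw [hΦ, map_sum, LinearMap.sum_apply]
      simp only [map_smul, LinearMap.smul_apply, hf, Module.Basis.coord_apply,
        Module.Basis.repr_self, Finsupp.single_apply, smul_eq_mul, mul_ite, mul_one, mul_zero]
      rw [Finset.sum_ite_eq]
      simp
    have h2 := congrArg (Subtype.val) h1
    simpa using h2

/-- **The swap.** -/
theorem TSPair.exists_swap (P : TSPair Q U W) (hG : Good Q) {k : ℕ}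
    (hU : Module.finrank F U = k) (hW : Module.finrank F W = k) (hk : 0 < k) (hke : Even k) :
    ∃ s ∈ E Q, (∀ a ∈ U, s a ∈ W) ∧ ∀ b ∈ W, s b ∈ U := by
  obtain ⟨e, f, he, hf, hef, hsU, hsW⟩ := P.exists_dual_basis hG.nondeg hU hW hk
  have hv : ∀ i, Q (e i - f i) = -1 := by
    intro i
    rw [sub_eq_add_neg, Q_add, QuadraticMap.map_neg, polar_neg_right, P.tsU _ (he i),
      P.tsW _ (hf i), hef]
    simp
  have hv0 : ∀ i, Q (e i - f i) ≠ 0 := by
    intro i; rw [hv i]; simp
  -- the effect of the reflections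
  have hre : ∀ i j, refl Q (e i - f i) (hv0 i) (e j) = if i = j then f j else e j := by
    intro i j
    rw [refl_apply, hv, polar_sub_left, P.polarU (he i) (he j), polar_comm Q (f i), hef]
    by_cases h : i = j
    · subst h; simp
    · have h' : ¬ j = i := fun h1 => h h1.symm
      simp [h, h']
  have hrf : ∀ i j, refl Q (e i - f i) (hv0 i) (f j) = if i = j then e j else f j := by
    intro i j
    rw [refl_apply, hv, polar_sub_left, P.polarW (hf i) (hf j), hef]
    by_cases h : i = j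
    · subst h; simp
    · simp [h]
  have key : ∀ m : ℕ, 2 * m ≤ k → ∃ g ∈ E Q,
      (∀ i : Fin k, (i : ℕ) < 2 * m → g (e i) = f i ∧ g (f i) = e i) ∧
      (∀ i : Fin k, 2 * m ≤ (i : ℕ) → g (e i) = e i ∧ g (f i) = f i) := by
    intro m
    induction m with
    | zero =>
      intro _
      exact ⟨1, (E Q).one_mem, fun i hi => absurd hi (by omega), fun i _ => ⟨rfl, rfl⟩⟩
    | succ m ih =>
      intro hm
      obtain ⟨g, hg, h1, h2⟩ := ih (by omega)
      let a : Fin k := ⟨2 * m, by omega⟩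
      let b : Fin k := ⟨2 * m + 1, by omega⟩
      have hab : a ≠ b := by
        intro h
        have := congrArg Fin.val h
        simp only [a, b] at this
        omega
      refine ⟨g * (refl Q (e a - f a) (hv0 a) * refl Q (e b - f b) (hv0 b)),
        (E Q).mul_mem hg (hG.refl_mul_refl_mem (hv0 b) (hv0 a) (by rw [hv, hv])), ?_, ?_⟩
      · intro i hi
        have e1 : (g * (refl Q (e a - f a) (hv0 a) * refl Q (e b - f b) (hv0 b))) (e i) =
          g (refl Q (e a - f a) (hv0 a) (refl Q (e b - f b) (hv0 b) (e i))) := rfl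
        have e2 : (g * (refl Q (e a - f a) (hv0 a) * refl Q (e b - f b) (hv0 b))) (f i) =
          g (refl Q (e a - f a) (hv0 a) (refl Q (e b - f b) (hv0 b) (f i))) := rfl
        rw [e1, e2, hre b i, hrf b i]
        by_cases hbi : b = i
        · subst hbi
          rw [if_pos rfl, if_pos rfl, hrf a b, hre a b, if_neg hab, if_neg hab]
          exact ⟨(h2 b (by simp only [b]; omega)).2, (h2 b (by simp only [b]; omega)).1⟩
        · rw [if_neg hbi, if_neg hbi, hre a i, hrf a i]
          by_cases hai : a = i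
          · subst hai
            rw [if_pos rfl, if_pos rfl]
            exact ⟨(h2 a (by simp only [a]; omega)).2, (h2 a (by simp only [a]; omega)).1⟩
          · rw [if_neg hai, if_neg hai]
            refine h1 i ?_
            have h3 : (i : ℕ) ≠ 2 * m := fun h => hai (Fin.ext h.symm)
            have h4 : (i : ℕ) ≠ 2 * m + 1 := fun h => hbi (Fin.ext h.symm)
            omega
      · intro i hi
        have hai : a ≠ i := by
          intro h
          have := congrArg Fin.val h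
          simp only [a] at this
          omega
        have hbi : b ≠ i := by
          intro h
          have := congrArg Fin.val h
          simp only [b] at this
          omega
        have e1 : (g * (refl Q (e a - f a) (hv0 a) * refl Q (e b - f b) (hv0 b))) (e i) =
          g (refl Q (e a - f a) (hv0 a) (refl Q (e b - f b) (hv0 b) (e i))) := rfl
        have e2 : (g * (refl Q (e a - f a) (hv0 a) * refl Q (e b - f b) (hv0 b))) (f i) =
          g (refl Q (e a - f a) (hv0 a) (refl Q (e b - f b) (hv0 b) (f i))) := rfl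
        rw [e1, e2, hre b i, hrf b i, if_neg hbi, if_neg hbi, hre a i, hrf a i, if_neg hai,
          if_neg hai]
        exact h2 i (by omega)
  obtain ⟨m, hm⟩ := hke
  obtain ⟨g, hg, h1, -⟩ := key m (by omega)
  refine ⟨g, hg, ?_, ?_⟩
  · intro a ha
    rw [hsU a ha, map_sum]
    refine W.sum_mem fun i _ => ?_
    rw [map_smul, (h1 i (by omega)).1]
    exact W.smul_mem _ (hf i)
  · intro b hb
    rw [hsW b hb, map_sum]
    refine U.sum_mem fun i _ => ?_
    rw [map_smul, (h1 i (by omega)).2]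
    exact U.smul_mem _ (he i)

/-- A linear image of a subspace contained in a union of two subspaces is contained in one. -/
theorem image_union {U A B : Submodule F V} {g : V ≃ₗ[F] V}
    (h : ∀ u ∈ U, g u ∈ A ∨ g u ∈ B) : (∀ u ∈ U, g u ∈ A) ∨ (∀ u ∈ U, g u ∈ B) := by
  by_contra hcon
  push Not at hcon
  obtain ⟨⟨u, hu, hu'⟩, ⟨v, hv, hv'⟩⟩ := hcon
  have h1 : g u ∈ B := (h u hu).resolve_left hu'
  have h2 : g v ∈ A := (h v hv).resolve_right hv'
  rcases h (u + v) (U.add_mem hu hv) with h3 | h3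
  · rw [map_add] at h3
    exact hu' (by simpa using A.sub_mem h3 h2)
  · rw [map_add] at h3
    exact hv' (by simpa using B.sub_mem h3 h1)

theorem map_eq_of_le {U A : Submodule F V} {g : V ≃ₗ[F] V} (hA : 0 < Module.finrank F A)
    (hfr : Module.finrank F U = Module.finrank F A) (h : ∀ u ∈ U, g u ∈ A) :
    U.map (g : V →ₗ[F] V) = A := by
  have : Module.Finite F A := Module.finite_of_finrank_pos hA
  refine Submodule.eq_of_le_of_finrank_eq ?_ ?_
  · rintro _ ⟨u, hu, rfl⟩
    exact h u hu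
  · rw [LinearEquiv.finrank_map_eq g U, hfr]

/-- **Overgroups of the stabiliser of a pair of complementary totally singular subspaces.** -/
theorem Over.main {H : Subgroup (V ≃ₗ[F] V)} (P : TSPair Q U W) (hG : Good Q)
    (h : Over Q U W H) {k : ℕ} (hU : Module.finrank F U = k) (hW : Module.finrank F W = k)
    (hk : 5 ≤ k) {s : V ≃ₗ[F] V} (hs : s ∈ H) (hsU : ∀ a ∈ U, s a ∈ W)
    (hsW : ∀ b ∈ W, s b ∈ U) {g : V ≃ₗ[F] V} (hg : g ∈ H)
    (hgn : ¬ ((U.map (g : V →ₗ[F] V) = U ∧ W.map (g : V →ₗ[F] V) = W) ∨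
      (U.map (g : V →ₗ[F] V) = W ∧ W.map (g : V →ₗ[F] V) = U))) : E Q ≤ H := by
  by_cases hnU : ∀ u ∈ U, ∀ x0 ∈ U, ∀ x1 ∈ W, u ≠ 0 → x0 + x1 ∈ Ts Q H u → ∃ c : F, x0 = c • u
  swap
  · push Not at hnU
    obtain ⟨u, hu, x0, hx0, x1, hx1, hu0, hx, hc⟩ := hnU
    exact h.E_le P hG hu hu0 (by omega) (h.full P hG.nondeg hu hx0 hx1 hx hc) hs hsU
  by_cases hnW : ∀ u ∈ W, ∀ x0 ∈ W, ∀ x1 ∈ U, u ≠ 0 → x0 + x1 ∈ Ts Q H u → ∃ c : F, x0 = c • u
  swap
  · push Not at hnW
    obtain ⟨u, hu, x0, hx0, x1, hx1, hu0, hx, hc⟩ := hnW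
    exact (h.symm P).E_le P.symm hG hu hu0 (by omega)
      ((h.symm P).full P.symm hG.nondeg hu hx0 hx1 hx hc) hs hsW
  exfalso
  apply hgn
  have h1 := image_union (g := g) (U := U) (A := U) (B := W) fun u hu =>
    h.image P hG.nondeg (by omega) (by omega) hnU hnW hg hu
  have h2 := image_union (g := g) (U := W) (A := W) (B := U) fun u hu =>
    (h.symm P).image P.symm hG.nondeg (by omega) (by omega) hnW hnU hg hu
  have hVd : ∀ A : Submodule F V, (∀ u ∈ U, g u ∈ A) → (∀ u ∈ W, g u ∈ A) → A = ⊤ := by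
    intro A hA hB
    rw [eq_top_iff]
    intro v _
    obtain ⟨v, rfl⟩ := g.surjective v
    obtain ⟨a, ha, b, hb, rfl⟩ := P.decomp v
    rw [map_add]
    exact A.add_mem (hA a ha) (hB b hb)
  rcases h1 with h1 | h1 <;> rcases h2 with h2 | h2
  · left
    exact ⟨map_eq_of_le (by omega) rfl h1, map_eq_of_le (by omega) rfl h2⟩
  · exfalso
    have := hVd U h1 h2
    have h3 := P.inf
    rw [this, top_inf_eq] at h3
    rw [h3, finrank_bot] at hW
    omega
  · exfalso
    have := hVd W h1 h2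
    have h3 := P.inf
    rw [this, inf_top_eq] at h3
    rw [h3, finrank_bot] at hU
    omega
  · right
    exact ⟨map_eq_of_le (by omega) (by omega) h1, map_eq_of_le (by omega) (by omega) h2⟩

end Cfsg.Agent.H887.TS
end

-- part: H887/TSMax
section
/-!
The frozen decomposition stabiliser of two complementary totally singular subspaces.
-/

set_option autoImplicit false

namespace Cfsg.Agent.H887.TS

open QuadraticMap Cfsg.Agent.LieClassical.OrthCore Cfsg.Agent.LieClassical.OrthTrans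
  Cfsg.Agent.LieClassical.OrthSimple Cfsg.Agent.ClassicalGeometry.OrthAutBasic
  Cfsg.Agent.H887.SiegelMethod Cfsg.Agent.H887.OmegaBridge

variable {F V : Type*} [Field F] [AddCommGroup V] [Module F V] {Q : QuadraticForm F V}

theorem mem_decStab_two {D : Fin 2 → Submodule F V} {g : V ≃ₗ[F] V} :
    g ∈ decStab D ↔ (((D 0).map (g : V →ₗ[F] V) = D 0 ∧ (D 1).map (g : V →ₗ[F] V) = D 1) ∨
      ((D 0).map (g : V →ₗ[F] V) = D 1 ∧ (D 1).map (g : V →ₗ[F] V) = D 0)) := by
  constructor
  · rintro ⟨σ, h⟩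
    have h0 := h 0
    have h1 := h 1
    have hinj := σ.injective
    have hne : σ 0 ≠ σ 1 := fun h => absurd (hinj h) (by decide)
    have two : ∀ i : Fin 2, i = 0 ∨ i = 1 := by decide
    rcases two (σ 0) with h2 | h2 <;> rcases two (σ 1) with h3 | h3
    · exact absurd (h2.trans h3.symm) hne
    · left; rw [h2] at h0; rw [h3] at h1
      exact ⟨h0, h1⟩
    · right; rw [h2] at h0; rw [h3] at h1
      exact ⟨h0, h1⟩
    · exact absurd (h2.trans h3.symm) hne
  · rintro (⟨h0, h1⟩ | ⟨h0, h1⟩)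
    · refine ⟨1, fun i => ?_⟩
      fin_cases i
      · exact h0
      · exact h1
    · refine ⟨Equiv.swap 0 1, fun i => ?_⟩
      fin_cases i
      · simpa using h0
      · simpa using h1

theorem isCompl_of_decomp {ι : Type} [Fintype ι] [DecidableEq ι] {k : ℕ}
    {D : Fin 2 → Submodule F (ι → F)} (hD : Cfsg.Geo.IsMDecomposition k D) :
    D 0 ⊔ D 1 = ⊤ ∧ D 0 ⊓ D 1 = ⊥ := by
  constructor
  · have h := hD.iSup_eq_top
    rw [eq_top_iff, ← h]
    refine iSup_le fun i => ?_
    fin_cases i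
    · exact le_sup_left
    · exact le_sup_right
  · have h := hD.indep.pairwiseDisjoint (show (0 : Fin 2) ≠ 1 by decide)
    exact h.eq_bot

theorem tsPair_of_decomp {ι : Type} [Fintype ι] [DecidableEq ι] {k : ℕ} (Q : (ι → F) → F)
    (hQ : Cfsg.Geo.IsNondegenerateQuadraticForm Q)
    {D : Fin 2 → Submodule F (ι → F)} (hD : Cfsg.Geo.IsMDecomposition k D)
    (hts : ∀ i, Cfsg.Geo.IsTotallySingularQuad Q (D i)) : TSPair (qf Q hQ) (D 0) (D 1) :=
  ⟨hts 0, hts 1, (isCompl_of_decomp hD).1, (isCompl_of_decomp hD).2⟩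

variable {U W : Submodule F V}

theorem map_eq_self_of_le {A : Submodule F V} {g : V ≃ₗ[F] V} (h : ∀ u ∈ A, g u ∈ A)
    (h' : ∀ u ∈ A, g⁻¹ u ∈ A) : A.map (g : V →ₗ[F] V) = A := by
  apply le_antisymm
  · rintro _ ⟨u, hu, rfl⟩
    exact h u hu
  · intro u hu
    exact ⟨g⁻¹ u, h' u hu, LinearEquiv.apply_symm_apply g u⟩

/-- The long root element `T a b` with `a ∈ U`, `b ∈ W` preserves `U` and `W`. -/
theorem TSPair.root_map (P : TSPair Q U W) {a b : V} (ha : a ∈ U) (hb : b ∈ W)
    (hab : polar Q a b = 0) : U.map (T Q a b : V →ₗ[F] V) = U := by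
  have key : ∀ {b : V}, b ∈ W → polar Q a b = 0 → ∀ u ∈ U, T Q a b u ∈ U := by
    intro b hb hab u hu
    rw [T_apply_perp (P.tsU a ha) hab (P.polarU ha hu)]
    exact U.sub_mem hu (U.smul_mem _ ha)
  refine map_eq_self_of_le (key hb hab) ?_
  rw [T_inv (P.tsU a ha) hab]
  exact key (W.neg_mem hb) (by rw [polar_neg_right, hab, neg_zero])

theorem TSPair.root_map' (P : TSPair Q U W) {a b : V} (ha : a ∈ U) (hb : b ∈ W)
    (hab : polar Q a b = 0) : W.map (T Q a b : V →ₗ[F] V) = W := by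
  rw [T_swap (P.tsU a ha) (P.tsW b hb) hab]
  exact P.symm.root_map hb (U.neg_mem ha) (by rw [polar_neg_right, polar_comm, hab, neg_zero])

/-- A long root element with both parameters in `U` fixes `U` and moves `W`. -/
theorem TSPair.exists_move (P : TSPair Q U W) (hQ : Nondeg Q) (hU : 2 ≤ Module.finrank F U) :
    ∃ g ∈ E Q, U.map (g : V →ₗ[F] V) = U ∧ W.map (g : V →ₗ[F] V) ≠ W := by
  obtain ⟨a, ha, ha0, -⟩ := exists_perp_mem (Q := Q) U ![] (by omega)
  obtain ⟨w, hw, haw⟩ := P.exists_dualW hQ ha ha0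
  obtain ⟨b, hb, hb0, hb1⟩ := exists_perp_mem (Q := Q) U ![w] (by omega)
  have hbw : polar Q b w = 0 := by rw [polar_comm]; exact hb1 0
  have hab : polar Q a b = 0 := P.polarU ha hb
  refine ⟨T Q a b, T_mem_E a b, ?_, ?_⟩
  · have key : ∀ {b : V}, b ∈ U → ∀ u ∈ U, T Q a b u ∈ U := by
      intro b hb u hu
      rw [T_apply_perp (P.tsU a ha) (P.polarU ha hb) (P.polarU ha hu)]
      exact U.sub_mem hu (U.smul_mem _ ha)
    refine map_eq_self_of_le (key hb) ?_
    rw [T_inv (P.tsU a ha) hab]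
    exact key (U.neg_mem hb)
  · intro h
    have h1 : T Q a b w ∈ W := by
      rw [← h]
      exact ⟨w, hw, rfl⟩
    rw [T_apply_root (P.tsU a ha) (P.tsU b hb) hab, haw, hbw, one_smul, zero_smul, sub_zero] at h1
    have h2 : b ∈ W := by simpa using W.sub_mem h1 hw
    exact hb0 (P.eq_zero hb h2)

end Cfsg.Agent.H887.TS
end
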